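import Cfsg.Agent.S3781
import Cfsg.Agent.PLocal.Uniserial
import Mathlib

/-!
# Mann's lower bound for the order of a `p`-group of given derived length

For a normal `N ≤ γ_{s+1}` the series `N, [N,G], [N,G,G], …` takes `s + 1` proper steps before it
reaches `⁅N, N⁆`. A cyclic head pushes `⁅N, N⁆` one step further down, and a two-generated head
with no room left gives `⁅N, N⁆` a cyclic head.
-/

set_option autoImplicit false
set_option linter.unusedSectionVars false
set_option linter.style.haveILetI false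

namespace CfsgLib.DerivedBound

open Subgroup Cfsg.Agent.S3781
open scoped commutatorElement

variable {G : Type*} [Group G]

/-- `N` is cyclic modulo `[N, G]`. -/
def Head (N : Subgroup G) : Prop := ∃ c ∈ N, N ≤ zpowers c ⊔ chain N 1

theorem chain_lcs (s : ℕ) : ∀ j, chain ((⊤ : Subgroup G).lowerCentralSeries s) j = (⊤ : Subgroup G).lowerCentralSeries (s + j)
  | 0 => rfl
  | j + 1 => congrArg (fun X => ⁅X, (⊤ : Subgroup G)⁆) (chain_lcs s j)

theorem chain_le_lcs_add {N : Subgroup G} {s : ℕ} (h : N ≤ (⊤ : Subgroup G).lowerCentralSeries s) (j : ℕ) :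
    chain N j ≤ (⊤ : Subgroup G).lowerCentralSeries (s + j) :=
  (chain_mono h j).trans (chain_lcs s j).le

theorem chain_succ_le {N : Subgroup G} [N.Normal] (j : ℕ) : chain N (j + 1) ≤ chain N j := by
  haveI := chain_normal N j
  exact commutator_le_left _ _

theorem chain_antitone {N : Subgroup G} [N.Normal] {i j : ℕ} (h : i ≤ j) : chain N j ≤ chain N i :=
  antitone_nat_of_succ_le (f := fun j => chain N j) (fun j => chain_succ_le j) h

variable {N : Subgroup G} [hN : N.Normal] {s : ℕ}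

theorem derived_le (hs : N ≤ (⊤ : Subgroup G).lowerCentralSeries s) : ⁅N, N⁆ ≤ chain N (s + 1) :=
  (commutator_mono le_rfl hs).trans (commutator_lcs_le s N)

theorem derived_le_of_gen (hs : N ≤ (⊤ : Subgroup G).lowerCentralSeries s) {a b : G}
    (hgen : N ≤ zpowers a ⊔ zpowers b ⊔ chain N 1) (ha : a ∈ N) (hb : b ∈ N) :
    ⁅N, N⁆ ≤ zpowers ⁅a, b⁆ ⊔ chain N (s + 2) := by
  haveI := chain_normal N (s + 2)
  set W := chain N (s + 2) with hW
  set X := zpowers ⁅a, b⁆ ⊔ W with hX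
  have hz : ⁅a, b⁆ ∈ chain N (s + 1) := derived_le hs (commutator_mem_commutator ha hb)
  haveI hXn : X.Normal := by
    refine ⟨fun x hx g => ?_⟩
    have hXle : X ≤ chain N (s + 1) :=
      sup_le (zpowers_le.2 hz) (chain_succ_le _)
    have h1 : ⁅x, g⁆ ∈ W := commutator_mem_commutator (hXle hx) (mem_top g)
    have e : g * x * g⁻¹ = ⁅x, g⁆⁻¹ * x := by rw [commutatorElement_def]; group
    rw [e]
    exact mul_mem (inv_mem (mem_sup_right h1)) hx
  let f := QuotientGroup.mk' X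
  have hcomm : ∀ u v, ⁅u, v⁆ ∈ X → f u * f v = f v * f u := fun u v h => by
    rw [← commutatorElement_eq_one_iff_mul_comm, ← map_commutatorElement]
    exact (QuotientGroup.eq_one_iff _).2 h
  have hL : ∀ u ∈ N, ∀ l ∈ chain N 1, f u * f l = f l * f u := fun u hu l hl =>
    hcomm u l (mem_sup_right (commutator_lcs_le (s + 1) N
      (commutator_mem_commutator hu (chain_le_lcs_add hs 1 hl))))
  have hab : f a * f b = f b * f a := hcomm a b (mem_sup_left (mem_zpowers _))
  have hgena : ∀ u, u = a ∨ u = b → N ≤ (centralizer ({f u} : Set (G ⧸ X))).comap f := fun u hu => by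
    have huN : u ∈ N := by rcases hu with rfl | rfl <;> assumption
    refine hgen.trans (sup_le (sup_le (zpowers_le.2 ?_) (zpowers_le.2 ?_)) fun l hl => ?_)
    · rw [mem_comap, mem_centralizer_singleton_iff]
      rcases hu with rfl | rfl
      · rfl
      · exact hab
    · rw [mem_comap, mem_centralizer_singleton_iff]
      rcases hu with rfl | rfl
      · exact hab.symm
      · rfl
    · rw [mem_comap, mem_centralizer_singleton_iff]
      exact (hL u huN l hl).symm
  have hall : N ≤ (centralizer ((N.map f : Subgroup (G ⧸ X)) : Set (G ⧸ X))).comap f := by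
    refine hgen.trans (sup_le (sup_le (zpowers_le.2 ?_) (zpowers_le.2 ?_)) fun l hl => ?_) <;>
      rw [mem_comap, mem_centralizer_iff] <;> rintro _ ⟨v, hv, rfl⟩
    · exact mem_centralizer_singleton_iff.1 (mem_comap.1 (hgena a (Or.inl rfl) hv))
    · exact mem_centralizer_singleton_iff.1 (mem_comap.1 (hgena b (Or.inr rfl) hv))
    · exact hL v hv l hl
  rw [commutator_le]
  intro u hu v hv
  refine (QuotientGroup.eq_one_iff _).1 ?_
  show f ⁅u, v⁆ = 1
  rw [map_commutatorElement, commutatorElement_eq_one_iff_mul_comm]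
  exact (mem_centralizer_iff.1 (mem_comap.1 (hall hu)) (f v) ⟨v, hv, rfl⟩).symm

theorem derived_le_of_head (hs : N ≤ (⊤ : Subgroup G).lowerCentralSeries s) (hh : Head N) :
    ⁅N, N⁆ ≤ chain N (s + 2) := by
  obtain ⟨c, hc, hgen⟩ := hh
  refine (derived_le_of_gen hs (a := c) (b := c) (hgen.trans (sup_le_sup_right le_sup_left _)) hc hc).trans ?_
  rw [commutatorElement_self, zpowers_one_eq_bot, bot_sup_eq]

variable [Finite G] {p : ℕ} [hp : Fact p.Prime]

/-- The series of `r` derived subgroups of `N`. -/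
def ds (N : Subgroup G) : ℕ → Subgroup G
  | 0 => N
  | r + 1 => ds ⁅N, N⁆ r

theorem ds_succ : ∀ (r : ℕ) (N : Subgroup G), ds N (r + 1) = ⁅ds N r, ds N r⁆
  | 0, _ => rfl
  | r + 1, N => ds_succ r ⁅N, N⁆

theorem ds_top : ∀ k, ds (⊤ : Subgroup G) k = derivedSeries G k
  | 0 => rfl
  | k + 1 => by rw [ds_succ, ds_top k, derivedSeries_succ]

theorem card_two_gen (hG : IsPGroup p G) {N L : Subgroup G} [L.Normal] (hL : L ≤ N)
    (hcard : Nat.card N ≤ p ^ 2 * Nat.card L) (hnc : ∀ c ∈ N, ¬ N ≤ zpowers c ⊔ L) :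
    ∃ a ∈ N, ∃ b ∈ N, N ≤ zpowers a ⊔ zpowers b ⊔ L := by
  obtain ⟨a, ha, hna⟩ : ∃ a ∈ N, a ∉ L := by
    by_contra h
    push Not at h
    exact hnc 1 (one_mem N) fun x hx => mem_sup_right (h x hx)
  obtain ⟨b, hb, hnb⟩ := SetLike.not_le_iff_exists.1 (hnc a ha)
  refine ⟨a, ha, b, hb, ?_⟩
  have hQ : IsPGroup p (⊤ : Subgroup G) := hG.to_subgroup ⊤
  have h1 : L < zpowers a ⊔ L :=
    lt_of_le_of_ne le_sup_right fun e => hna (e.symm ▸ mem_sup_left (mem_zpowers a))
  have h2 : zpowers a ⊔ L < zpowers a ⊔ zpowers b ⊔ L :=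
    lt_of_le_of_ne (sup_le_sup_right le_sup_left _)
      fun e => hnb (e.symm ▸ mem_sup_left (mem_sup_right (mem_zpowers b)))
  have e1 := CfsgLib.Uniserial.mul_card_le hQ le_top h1
  have e2 := CfsgLib.Uniserial.mul_card_le hQ le_top h2
  refine (Subgroup.eq_of_le_of_card_ge (sup_le (sup_le (zpowers_le.2 ha) (zpowers_le.2 hb)) hL) ?_).ge
  calc Nat.card N ≤ p ^ 2 * Nat.card L := hcard
    _ = p * (p * Nat.card L) := by ring
    _ ≤ p * Nat.card ↥(zpowers a ⊔ L) := Nat.mul_le_mul_left _ e1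
    _ ≤ Nat.card ↥(zpowers a ⊔ zpowers b ⊔ L) := e2

/-- The three possibilities for `N`. -/
theorem step (hG : IsPGroup p G) (hs : N ≤ (⊤ : Subgroup G).lowerCentralSeries s) (hne : ⁅N, N⁆ ≠ ⊥) :
    ⁅N, N⁆ ≤ (⊤ : Subgroup G).lowerCentralSeries (2 * s + 1) ∧
    (Head N → ⁅N, N⁆ ≤ (⊤ : Subgroup G).lowerCentralSeries (2 * s + 2) ∧
      p ^ (s + 2) * Nat.card ↥⁅N, N⁆ ≤ Nat.card N) ∧
    (¬ Head N → p ^ (s + 3) * Nat.card ↥⁅N, N⁆ ≤ Nat.card N ∨
      (Head ⁅N, N⁆ ∧ p ^ (s + 2) * Nat.card ↥⁅N, N⁆ ≤ Nat.card N)) := by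
  have hQ : IsPGroup p (⊤ : Subgroup G) := hG.to_subgroup ⊤
  have hle := derived_le hs
  have hne' : ∀ j, j ≤ s + 1 → chain N j ≠ ⊥ := fun j hj h => hne
    (le_bot_iff.1 ((hle.trans (chain_antitone hj)).trans h.le))
  have hdrop : ∀ j, j ≤ s + 1 → p * Nat.card ↥(chain N (j + 1)) ≤ Nat.card ↥(chain N j) := fun j hj => by
    haveI := chain_normal N j
    exact CfsgLib.Uniserial.descend hQ le_top le_top (by rw [normalizer_eq_top]) (hne' j hj)
  have hchain : ∀ j, j ≤ s → p ^ j * Nat.card ↥(chain N (j + 1)) ≤ Nat.card ↥(chain N 1) := by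
    intro j
    induction j with
    | zero => intro _; simp
    | succ j ih =>
      intro hj
      refine le_trans ?_ (ih (by omega))
      rw [pow_succ, mul_assoc]
      exact Nat.mul_le_mul_left _ (hdrop (j + 1) (by omega))
  have hcs := hchain s le_rfl
  have h01 := hdrop 0 (Nat.zero_le _)
  refine ⟨hle.trans ((chain_le_lcs_add hs _).trans (le_of_eq (by rw [show s + (s + 1) = 2 * s + 1 by omega]))),
    fun hh => ?_, fun hh => ?_⟩
  · have h2 := derived_le_of_head hs hh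
    refine ⟨h2.trans ((chain_le_lcs_add hs _).trans (le_of_eq (by rw [show s + (s + 2) = 2 * s + 2 by omega]))), ?_⟩
    calc p ^ (s + 2) * Nat.card ↥⁅N, N⁆ ≤ p ^ (s + 2) * Nat.card ↥(chain N (s + 2)) :=
          Nat.mul_le_mul_left _ (card_le_of_le h2)
      _ = p * (p ^ s * (p * Nat.card ↥(chain N (s + 2)))) := by ring
      _ ≤ p * (p ^ s * Nat.card ↥(chain N (s + 1))) :=
          Nat.mul_le_mul_left _ (Nat.mul_le_mul_left _ (hdrop (s + 1) le_rfl))
      _ ≤ p * Nat.card ↥(chain N 1) := Nat.mul_le_mul_left _ hcs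
      _ ≤ Nat.card N := h01
  · haveI := chain_normal N 1
    have hnc : ∀ c ∈ N, ¬ N ≤ zpowers c ⊔ chain N 1 := fun c hc h => hh ⟨c, hc, h⟩
    obtain ⟨m, hm⟩ : ∃ m, Nat.card N = p ^ m * Nat.card ↥(chain N 1) := by
      obtain ⟨u, hu⟩ := IsPGroup.iff_card.1 (hG.to_subgroup N)
      obtain ⟨w, hw⟩ := IsPGroup.iff_card.1 (hG.to_subgroup (chain N 1))
      have : w ≤ u := (Nat.pow_le_pow_iff_right hp.out.one_lt).1
        (hu ▸ hw ▸ card_le_of_le (chain_antitone (Nat.zero_le 1)))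
      exact ⟨u - w, by rw [hu, hw, ← pow_add, Nat.sub_add_cancel this]⟩
    have hm2 : 2 ≤ m := by
      by_contra hlt
      obtain ⟨a, ha, hna⟩ : ∃ a ∈ N, a ∉ chain N 1 := by
        by_contra h
        push Not at h
        exact hnc 1 (one_mem N) fun x hx => mem_sup_right (h x hx)
      refine hnc a ha (Subgroup.eq_of_le_of_card_ge (sup_le (zpowers_le.2 ha) (chain_antitone (Nat.zero_le 1))) ?_).ge
      rw [hm]
      refine le_trans (Nat.mul_le_mul_right _ (Nat.pow_le_pow_right hp.out.pos (show m ≤ 1 by omega))) ?_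
      rw [pow_one]
      exact CfsgLib.Uniserial.mul_card_le hQ le_top
        (lt_of_le_of_ne le_sup_right fun e => hna (e.symm ▸ mem_sup_left (mem_zpowers a)))
    have key : ∀ i, i ≤ m → p ^ (s + i) * Nat.card ↥(chain N (s + 1)) ≤ Nat.card N := fun i hi => by
      calc p ^ (s + i) * Nat.card ↥(chain N (s + 1)) = p ^ i * (p ^ s * Nat.card ↥(chain N (s + 1))) := by ring
        _ ≤ p ^ m * Nat.card ↥(chain N 1) := Nat.mul_le_mul (Nat.pow_le_pow_right hp.out.pos hi) hcs
        _ = Nat.card N := hm.symm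
    rcases (show 3 ≤ m ∨ m = 2 by omega) with h3 | rfl
    · exact Or.inl ((Nat.mul_le_mul_left _ (card_le_of_le hle)).trans (key 3 h3))
    rcases hle.eq_or_lt with heq | hlt
    · right
      refine ⟨?_, heq ▸ key 2 le_rfl⟩
      obtain ⟨a, ha, b, hb, hgen⟩ := card_two_gen hG (chain_antitone (Nat.zero_le 1)) hm.le hnc
      refine ⟨⁅a, b⁆, commutator_mem_commutator ha hb, (derived_le_of_gen hs hgen ha hb).trans ?_⟩
      rw [show chain ⁅N, N⁆ 1 = chain N (s + 2) by rw [heq]; rfl]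
    · left
      calc p ^ (s + 3) * Nat.card ↥⁅N, N⁆ = p ^ (s + 2) * (p * Nat.card ↥⁅N, N⁆) := by ring
        _ ≤ p ^ (s + 2) * Nat.card ↥(chain N (s + 1)) :=
            Nat.mul_le_mul_left _ (CfsgLib.Uniserial.mul_card_le hQ le_top hlt)
        _ ≤ Nat.card N := key 2 le_rfl

theorem combine {a b c x y : ℕ} (h : p ^ a * x ≤ y) (hx : p ^ b ≤ x) (hc : c ≤ a + b) : p ^ c ≤ y :=
  calc p ^ c ≤ p ^ (a + b) := Nat.pow_le_pow_right hp.out.pos hc
    _ = p ^ a * p ^ b := pow_add _ _ _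
    _ ≤ p ^ a * x := Nat.mul_le_mul_left _ hx
    _ ≤ y := h

theorem bound (hG : IsPGroup p G) : ∀ (r : ℕ) (N : Subgroup G), N.Normal → ∀ s,
    N ≤ (⊤ : Subgroup G).lowerCentralSeries s → ds N (r + 1) ≠ ⊥ →
    p ^ ((2 ^ (r + 1) - 1) * (s + 1) + max (2 * r + 1) 2) ≤ Nat.card N ∧
    (Head N → p ^ ((2 ^ (r + 1) - 1) * (s + 1) + (2 * r + 2)) ≤ Nat.card N) := by
  intro r
  induction r with
  | zero =>
    intro N hNn s hs hne
    haveI := hNn
    obtain ⟨-, h1, h2⟩ := step hG hs hne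
    have hp1 : p ^ 1 ≤ Nat.card ↥⁅N, N⁆ := by
      obtain ⟨u, hu⟩ := IsPGroup.iff_card.1 (hG.to_subgroup ⁅N, N⁆)
      rw [hu]
      refine Nat.pow_le_pow_right hp.out.pos (Nat.one_le_iff_ne_zero.2 fun h0 => hne ?_)
      exact eq_bot_of_card_eq ⁅N, N⁆ (by rw [hu, h0, pow_zero])
    by_cases hh : Head N
    · exact ⟨combine (h1 hh).2 hp1 (by omega), fun _ => combine (h1 hh).2 hp1 (by omega)⟩
    · refine ⟨?_, fun h => absurd h hh⟩
      rcases h2 hh with h | ⟨-, h⟩ <;> exact combine h hp1 (by omega)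
  | succ r ih =>
    intro N hNn s hs hne
    haveI := hNn
    have hne1 : ⁅N, N⁆ ≠ ⊥ := fun h => hne (by
      change ds ⁅N, N⁆ (r + 1) = ⊥
      rw [h]
      have : ∀ j, ds (⊥ : Subgroup G) j = ⊥ := fun j => by
        induction j with
        | zero => rfl
        | succ j ihj => rw [ds_succ, ihj, commutator_bot_left]
      exact this _)
    haveI : (⁅N, N⁆).Normal := commutator_normal N N
    obtain ⟨h0, h1, h2⟩ := step hG hs hne1
    obtain ⟨Q, hQ⟩ : ∃ Q, 2 ^ (r + 1) - 1 = Q := ⟨_, rfl⟩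
    have hQ1 : r + 1 ≤ Q := by
      have := Nat.lt_two_pow_self (n := r + 1)
      omega
    have hQ' : 2 ^ (r + 1 + 1) - 1 = 2 * Q + 1 := by
      have := Nat.one_le_two_pow (n := r + 1)
      rw [pow_succ]; omega
    rw [hQ']
    by_cases hh : Head N
    · obtain ⟨h3, h4⟩ := h1 hh
      obtain ⟨h5, -⟩ := ih _ inferInstance _ h3 hne
      rw [hQ] at h5
      have e : Q * (2 * s + 2 + 1) = 2 * Q * (s + 1) + Q := by ring
      have e' : (2 * Q + 1) * (s + 1) = 2 * Q * (s + 1) + (s + 1) := by ring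
      exact ⟨combine h4 h5 (by omega), fun _ => combine h4 h5 (by omega)⟩
    · refine ⟨?_, fun h => absurd h hh⟩
      obtain ⟨h5, h6⟩ := ih _ inferInstance _ h0 hne
      rw [hQ] at h5 h6
      have e : Q * (2 * s + 1 + 1) = 2 * Q * (s + 1) := by ring
      have e' : (2 * Q + 1) * (s + 1) = 2 * Q * (s + 1) + (s + 1) := by ring
      rcases h2 hh with h | ⟨hH, h⟩
      · exact combine h h5 (by omega)
      · exact combine h (h6 hH) (by omega)

theorem main {P : Type*} [Group P] [Finite P] {n k : ℕ} (hcard : Nat.card P = p ^ n)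
    (hk : derivedSeries P k ≠ ⊥) : 2 ^ k + 2 * k ≤ n + 2 := by
  rcases k with _ | r
  · simp
  have hG : IsPGroup p P := IsPGroup.of_card hcard
  obtain ⟨h, -⟩ := bound hG r ⊤ inferInstance 0 le_rfl (by rw [ds_top]; exact hk)
  rw [card_top, hcard] at h
  have h' := (Nat.pow_le_pow_iff_right hp.out.one_lt).1 h
  have := Nat.one_le_two_pow (n := r + 1)
  omega

end CfsgLib.DerivedBound
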